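import Mathlib

/-!
# Products of odd order of involutive permutations: insertion lemmas
-/

set_option autoImplicit false

namespace Cfsg.Agent.Lib.OddProductPerm

open Equiv

variable {α : Type*} [Fintype α] [DecidableEq α]

/-- Odd order in exponent form. -/
def OddPow (g : Perm α) : Prop := ∃ k : ℕ, Odd k ∧ g ^ k = 1

lemma oddPow_iff (g : Perm α) : OddPow g ↔ Odd (orderOf g) :=
  ⟨fun ⟨_, hk, h⟩ => hk.of_dvd_nat (orderOf_dvd_of_pow_eq_one h),
    fun h => ⟨_, h, pow_orderOf_eq_one g⟩⟩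

lemma oddPow_one : OddPow (1 : Perm α) := ⟨1, odd_one, one_pow _⟩

lemma OddPow.inv {g : Perm α} (h : OddPow g) : OddPow g⁻¹ := by
  obtain ⟨k, hk, e⟩ := h; exact ⟨k, hk, by rw [inv_pow, e, inv_one]⟩

lemma OddPow.mul {g h : Perm α} (hc : Commute g h) (hg : OddPow g) (hh : OddPow h) :
    OddPow (g * h) := by
  obtain ⟨k, hk, e⟩ := hg
  obtain ⟨l, hl, f⟩ := hh
  exact ⟨k * l, hk.mul hl, by rw [hc.mul_pow, pow_mul, e, one_pow, one_mul, mul_comm, pow_mul, f,
    one_pow]⟩

lemma OddPow.conj {g : Perm α} (h : OddPow g) (c : Perm α) : OddPow (c * g * c⁻¹) := by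
  obtain ⟨k, hk, e⟩ := h; exact ⟨k, hk, by rw [conj_pow, e]; simp⟩

lemma oddPow_of_inv {g h : Perm α} (hg : g * g = 1) (hh : h * h = 1) (e : OddPow (g * h)) :
    OddPow (h * g) := by
  have := e.inv
  rwa [mul_inv_rev, inv_eq_of_mul_eq_one_right hg, inv_eq_of_mul_eq_one_right hh] at this

/-- The three-cycle `a → n₁ → n₂ → a`. -/
def tri (a n₁ n₂ : α) : Perm α := swap a n₁ * swap n₁ n₂

variable {a n₁ n₂ : α}

lemma tri_a (h₁ : a ≠ n₁) (h₂ : a ≠ n₂) : tri a n₁ n₂ a = n₁ := by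
  rw [tri, Perm.mul_apply, swap_apply_of_ne_of_ne h₁ h₂, swap_apply_left]

lemma tri_n₁ (h₂ : a ≠ n₂) (h₃ : n₁ ≠ n₂) : tri a n₁ n₂ n₁ = n₂ := by
  rw [tri, Perm.mul_apply, swap_apply_left, swap_apply_of_ne_of_ne h₂.symm h₃.symm]

lemma tri_n₂ : tri a n₁ n₂ n₂ = a := by
  rw [tri, Perm.mul_apply, swap_apply_right, swap_apply_right]

lemma tri_other {x : α} (ha : x ≠ a) (h₁ : x ≠ n₁) (h₂ : x ≠ n₂) : tri a n₁ n₂ x = x := by
  rw [tri, Perm.mul_apply, swap_apply_of_ne_of_ne h₁ h₂, swap_apply_of_ne_of_ne ha h₁]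

/-- A cycle of odd length stays odd when two fixed points are inserted. -/
theorem OddPow.mul_tri {σ : Perm α} (hσ : OddPow σ) (h₁ : a ≠ n₁) (h₂ : a ≠ n₂) (h₃ : n₁ ≠ n₂)
    (f₁ : σ n₁ = n₁) (f₂ : σ n₂ = n₂) : OddPow (σ * tri a n₁ n₂) := by
  classical
  set τ := σ * tri a n₁ n₂ with hτ
  have hτa : τ a = n₁ := by rw [hτ, Perm.mul_apply, tri_a h₁ h₂, f₁]
  have hτ1 : τ n₁ = n₂ := by rw [hτ, Perm.mul_apply, tri_n₁ h₂ h₃, f₂]
  have hτ2 : τ n₂ = σ a := by rw [hτ, Perm.mul_apply, tri_n₂]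
  have hσn : ∀ (m : ℕ) (x : α), σ x = x → (σ ^ m) x = x := fun m x hx => by
    induction m with
    | zero => rfl
    | succ m ih => rw [pow_succ, Perm.mul_apply, hx, ih]
  have hout : ∀ (m : ℕ) (x : α), (∀ j, j < m → (σ ^ j) x ≠ a) → x ≠ n₁ → x ≠ n₂ →
      (τ ^ m) x = (σ ^ m) x := by
    intro m
    induction m with
    | zero => intros; rfl
    | succ m ih =>
      intro x hx h1 h2
      rw [pow_succ', Perm.mul_apply, ih x (fun j hj => hx j (by omega)) h1 h2, hτ, Perm.mul_apply,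
        tri_other (hx m (by omega)) ?_ ?_, pow_succ', Perm.mul_apply]
      · intro e
        exact h1 ((σ ^ m).injective (by rw [e, hσn m n₁ f₁]))
      · intro e
        exact h2 ((σ ^ m).injective (by rw [e, hσn m n₂ f₂]))
  -- every point has an odd period under `τ`
  have hper : ∀ x, ∃ k, Odd k ∧ (τ ^ k) x = x := by
    obtain ⟨k₀, hk₀, hk1⟩ := hσ
    -- least period of `a`
    have hex : ∃ L, 0 < L ∧ (σ ^ L) a = a := ⟨k₀, hk₀.pos, by rw [hk1]; rfl⟩
    set L := Nat.find hex with hL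
    obtain ⟨hLpos, hLa⟩ := Nat.find_spec hex
    have hmin : ∀ j, 0 < j → j < L → (σ ^ j) a ≠ a := fun j hj hjL e => Nat.find_min hex hjL ⟨hj, e⟩
    have hLodd : Odd L := by
      have hper' : ∀ q, (σ ^ (L * q)) a = a := fun q => by
        induction q with
        | zero => rfl
        | succ q ih => rw [Nat.mul_succ, pow_add, Perm.mul_apply, hLa, ih]
      have hmod : (σ ^ (k₀ % L)) a = a := by
        conv_rhs => rw [show a = (σ ^ k₀) a by rw [hk1]; rfl, ← Nat.mod_add_div k₀ L, pow_add,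
          Perm.mul_apply, hper' (k₀ / L)]
      have hz : k₀ % L = 0 := by
        by_contra hne
        exact hmin _ (Nat.pos_of_ne_zero hne) (Nat.mod_lt _ hLpos) hmod
      exact hk₀.of_dvd_nat (Nat.dvd_of_mod_eq_zero hz)
    have hpowj : ∀ j, j < L → (τ ^ (j + 3)) a = (σ ^ (j + 1)) a := by
      intro j
      induction j with
      | zero =>
        intro _
        simp [pow_succ', Perm.mul_apply, hτa, hτ1, hτ2]
      | succ j ih =>
        intro hj
        rw [pow_succ', Perm.mul_apply, ih (by omega), hτ, Perm.mul_apply,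
          tri_other (hmin (j + 1) (by omega) hj) ?_ ?_, ← Perm.mul_apply, ← pow_succ']
        · intro e; exact h₁ ((σ ^ (j + 1)).injective (by rw [e, hσn _ n₁ f₁]))
        · intro e; exact h₂ ((σ ^ (j + 1)).injective (by rw [e, hσn _ n₂ f₂]))
    have hcyc : (τ ^ (L + 2)) a = a := by
      have := hpowj (L - 1) (by omega)
      rwa [show L - 1 + 3 = L + 2 by omega, show L - 1 + 1 = L by omega, hLa] at this
    have horb : ∀ i, (τ ^ (L + 2)) ((τ ^ i) a) = (τ ^ i) a := fun i => by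
      rw [← Perm.mul_apply, ← pow_add, add_comm, pow_add, Perm.mul_apply, hcyc]
    have hLodd2 : Odd (L + 2) := hLodd.add_even (by decide)
    intro x
    by_cases hx1 : x = n₁
    · exact ⟨L + 2, hLodd2, by simpa [hx1, hτa] using horb 1⟩
    by_cases hx2 : x = n₂
    · exact ⟨L + 2, hLodd2, by simpa [hx2, hτa, hτ1, pow_succ', Perm.mul_apply] using horb 2⟩
    by_cases hmeet : ∃ j, (σ ^ j) a = x
    · refine ⟨L + 2, hLodd2, ?_⟩
      obtain ⟨j, hj⟩ := hmeet
      have hper' : ∀ q, (σ ^ (L * q)) a = a := fun q => by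
        induction q with
        | zero => rfl
        | succ q ih => rw [Nat.mul_succ, pow_add, Perm.mul_apply, hLa, ih]
      have hj' : (σ ^ (j % L)) a = x := by
        conv_rhs => rw [← hj, ← Nat.mod_add_div j L, pow_add, Perm.mul_apply, hper' (j / L)]
      rcases Nat.eq_zero_or_pos (j % L) with h0 | h0
      · rw [h0] at hj'
        rw [← hj']
        exact hcyc
      · have := hpowj (j % L - 1) (Nat.lt_of_le_of_lt (Nat.sub_le _ _) (Nat.mod_lt j hLpos))
        rw [show j % L - 1 + 1 = j % L by omega, hj'] at this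
        rw [← this]
        exact horb _
    · refine ⟨k₀, hk₀, ?_⟩
      rw [hout k₀ x ?_ hx1 hx2, hk1]; · rfl
      intro j hj e
      refine hmeet ⟨k₀ - j, ?_⟩
      rw [← e, ← Perm.mul_apply, ← pow_add, Nat.sub_add_cancel hj.le, hk1]
      rfl
  choose k hk hfix using hper
  refine ⟨∏ x : α, k x, ?_, ?_⟩
  · exact Finset.prod_induction k Odd (fun a b => Odd.mul) odd_one (fun x _ => hk x)
  · ext x
    obtain ⟨q, hq⟩ := Finset.dvd_prod_of_mem k (Finset.mem_univ x)
    rw [hq, pow_mul]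
    have : ∀ q, ((τ ^ k x) ^ q) x = x := fun q => by
      induction q with
      | zero => rfl
      | succ q ih => rw [pow_succ, Perm.mul_apply, hfix, ih]
    simpa using this q

end Cfsg.Agent.Lib.OddProductPerm
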