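import Cfsg.Agent.Lib.OddProductPerm.Steps

/-!
# Existence of the third involution
-/

set_option autoImplicit false

namespace Cfsg.Agent.Lib.OddProductPerm

open Equiv

set_option maxRecDepth 4000

variable {α : Type*} [Fintype α] [DecidableEq α]

/-- The single exceptional configuration: two matchings forming a four-cycle. -/
def IsSq (x y : Perm α) : Prop :=
  ∃ ι : Fin 4 ↪ α, x = emb ι (swap 0 1 * swap 2 3) ∧ y = emb ι (swap 0 3 * swap 1 2)

/-- The inductive claim. -/
def Q (x y : Perm α) : Prop :=
  (∃ z, Mid x y (x.support ∪ y.support) z) ∨ IsSq x y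

lemma Mid.mono {x y z : Perm α} {W W' : Finset α} (h : Mid x y W z) (hW : W ⊆ W') :
    Mid x y W' z :=
  ⟨h.sq, h.card, fun a ha => h.within a (fun e => ha (hW e)), h.left, h.right⟩

lemma IsSq.symm {x y : Perm α} (h : IsSq x y) : IsSq y x := by
  obtain ⟨ι, hx, hy⟩ := h
  let σ : Perm (Fin 4) := swap 1 3
  refine ⟨σ.toEmbedding.trans ι, ?_, ?_⟩
  · rw [hy]
    simp only [map_mul, emb_swap]
    simp only [σ, Function.Embedding.trans_apply, Equiv.coe_toEmbedding,
      show swap (1 : Fin 4) 3 0 = 0 by decide, show swap (1 : Fin 4) 3 1 = 3 by decide,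
      show swap (1 : Fin 4) 3 2 = 2 by decide, show swap (1 : Fin 4) 3 3 = 1 by decide]
    rw [swap_comm (ι 1) (ι 2)]
  · rw [hx]
    simp only [map_mul, emb_swap]
    simp only [σ, Function.Embedding.trans_apply, Equiv.coe_toEmbedding,
      show swap (1 : Fin 4) 3 0 = 0 by decide, show swap (1 : Fin 4) 3 1 = 3 by decide,
      show swap (1 : Fin 4) 3 2 = 2 by decide, show swap (1 : Fin 4) 3 3 = 1 by decide]
    rw [swap_comm (ι 3) (ι 2)]

lemma Q.symm {x y : Perm α} (h : Q x y) : Q y x := by
  rcases h with ⟨z, hz⟩ | h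
  · exact Or.inl ⟨z, hz.symm.mono (by rw [Finset.union_comm])⟩
  · exact Or.inr h.symm

lemma apply_apply {x : Perm α} (hx : x * x = 1) (a : α) : x (x a) = a := by
  rw [← Perm.mul_apply, hx]; rfl

/-- Remove a part on which `x` agrees with a known involution. -/
lemma peel {x : Perm α} (hx : x * x = 1) {k : ℕ} (ι : Fin k ↪ α) (g : Perm (Fin k))
    (hg : g * g = 1) (h : ∀ i, g i ≠ i → x (ι i) = ι (g i))
    (hfix : ∀ i, g i = i → x (ι i) = ι i) :
    Fixes (emb ι g * x) (Finset.univ.map ι) ∧ (emb ι g * x) * (emb ι g * x) = 1 ∧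
      emb ι g * (emb ι g * x) = x := by
  have hagree : ∀ i, x (ι i) = ι (g i) := fun i => by
    by_cases hi : g i = i
    · rw [hfix i hi, hi]
    · exact h i hi
  have hfixL : Fixes (emb ι g * x) (Finset.univ.map ι) := by
    intro a ha
    obtain ⟨i, -, rfl⟩ := Finset.mem_map.1 ha
    rw [Perm.mul_apply, hagree, emb_apply, ← Perm.mul_apply, hg]; rfl
  have hgg : emb ι g * emb ι g = 1 := by rw [← map_mul, hg, map_one]
  have hc : Commute (emb ι g) (emb ι g * x) :=
    (disjoint_of (fun a ha => emb_notMem ι g ha) hfixL).commute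
  refine ⟨hfixL, ?_, by rw [← mul_assoc, hgg, one_mul]⟩
  have e : emb ι g * x = x * emb ι g := by
    have h1 := hc.eq
    rw [← mul_assoc, hgg, one_mul] at h1
    rw [mul_assoc] at h1
    calc emb ι g * x = emb ι g * (emb ι g * (x * emb ι g)) := by rw [← h1]
      _ = x * emb ι g := by rw [← mul_assoc, hgg, one_mul]
  calc emb ι g * x * (emb ι g * x) = emb ι g * x * (x * emb ι g) := by rw [← e]
    _ = 1 := by rw [mul_assoc, ← mul_assoc x, hx, one_mul, hgg]

/-- Put a solved piece next to a solved or exceptional rest. -/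
lemma piece_add {k : ℕ} (ι : Fin k ↪ α) (gx gy gz : Perm (Fin k)) (m : ℕ) (hm : Odd m)
    (hz : gz * gz = 1) (hc : 2 * gz.support.card = gx.support.card + gy.support.card)
    (hl : (gx * gz) ^ m = 1) (hr : (gy * gz) ^ m = 1) (hne : ∃ i, gz i ≠ i)
    {x y : Perm α} (hx : Fixes x (Finset.univ.map ι)) (hy : Fixes y (Finset.univ.map ι))
    (h : Q x y) {W : Finset α} (hW : ∀ i, ι i ∈ W) (hxy : x.support ∪ y.support ⊆ W) :
    ∃ z, Mid (emb ι gx * x) (emb ι gy * y) W z := by
  classical
  set L := Finset.univ.map ι with hL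
  have hLW : L ⊆ W := by
    intro a ha
    obtain ⟨i, -, rfl⟩ := Finset.mem_map.1 ha
    exact hW i
  have hdis : Disjoint (x.support ∪ y.support) L := by
    rw [Finset.disjoint_union_left]; exact ⟨fixes_iff.1 hx, fixes_iff.1 hy⟩
  have hwin : ∀ g : Perm (Fin k), Within (emb ι g) L := fun g a ha => emb_notMem ι g ha
  have hp := mid_emb ι gx gy gz m hm hz hc hl hr
  rcases h with ⟨z, hz'⟩ | ⟨κ, hxκ, hyκ⟩
  · exact ⟨_, Mid.add hLW (hwin _) (hwin _) hp hx hy
      (hz'.mono (Finset.subset_sdiff.2 ⟨hxy, hdis⟩))⟩
  · -- insert the square into an edge of the piece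
    obtain ⟨i, hi⟩ := hne
    have hκU : ∀ j, κ j ∈ x.support ∪ y.support := fun j => by
      rw [hxκ, emb_support, Finset.mem_union, Finset.mem_map']
      left; revert j; decide
    have hκL : ∀ j l, κ j ≠ ι l := fun j l e =>
      Finset.disjoint_left.1 hdis (hκU j) (by rw [e, hL]; simp)
    have hgi : gz (gz i) = i := by rw [← Perm.mul_apply, hz]; rfl
    let f : Fin 6 → α := ![ι i, κ 0, κ 1, κ 2, κ 3, ι (gz i)]
    have hf : Function.Injective f := by
      intro a b hab
      fin_cases a <;> fin_cases b <;> first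
        | rfl
        | exact absurd (κ.injective hab) (by decide)
        | exact absurd hab (hκL _ _)
        | exact absurd hab.symm (hκL _ _)
        | exact absurd (ι.injective hab) (Ne.symm hi)
        | exact absurd (ι.injective hab) hi
    let τ : Fin 6 ↪ α := ⟨f, hf⟩
    have hfix : ∀ g : Perm (Fin k), Fixes (emb ι g) {τ 1, τ 2, τ 3, τ 4} := by
      intro g a ha
      refine emb_notMem ι g ?_
      intro hm'
      obtain ⟨l, -, rfl⟩ := Finset.mem_map.1 hm'
      simp only [Finset.mem_insert, Finset.mem_singleton] at ha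
      rcases ha with e | e | e | e <;> exact hκL _ l e.symm
    obtain ⟨z', hz'⟩ := Mid.insert_square (W := W) τ
      (fun j => by
        fin_cases j <;> first | exact hW _ | exact hxy (hκU _))
      (fun a ha => hp.within a (fun e => ha (hLW e))) (hp.mono hLW) (hfix gx) (hfix gy) (hfix gz)
      (emb_apply ι gz i)
    refine ⟨z', ?_⟩
    have ex : emb τ (swap 1 2 * swap 3 4) = x := by
      rw [hxκ]; simp only [map_mul, emb_swap]; rfl
    have ey : emb τ (swap 1 4 * swap 2 3) = y := by
      rw [hyκ]; simp only [map_mul, emb_swap]; rfl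
    rw [ex, ey, (disjoint_of (hwin gx) hx).commute.symm.eq,
      (disjoint_of (hwin gy) hy).commute.symm.eq] at hz'
    exact hz'

variable {x y : Perm α}

/-- The data of one induction step. -/
lemma step_piece {k : ℕ} (ι : Fin k ↪ α) (gx gy gz : Perm (Fin k)) (m : ℕ) (hm : Odd m)
    (hz : gz * gz = 1) (hc : 2 * gz.support.card = gx.support.card + gy.support.card)
    (hl : (gx * gz) ^ m = 1) (hr : (gy * gz) ^ m = 1) (hne : ∃ i, gz i ≠ i)
    (hgc : gx.support.card = gy.support.card) (hgx : gx * gx = 1) (hgy : gy * gy = 1)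
    (hmv : ∀ i, gx i ≠ i ∨ gy i ≠ i)
    (hx : x * x = 1) (hy : y * y = 1) (hcard : x.support.card = y.support.card)
    (ax : ∀ i, x (ι i) = ι (gx i)) (ay : ∀ i, y (ι i) = ι (gy i))
    (ih : ∀ x' y' : Perm α, x' * x' = 1 → y' * y' = 1 → x'.support.card = y'.support.card →
      (x'.support ∪ y'.support).card < (x.support ∪ y.support).card → Q x' y') :
    Q x y := by
  classical
  have hU : ∀ i, ι i ∈ x.support ∪ y.support := fun i => by
    rw [Finset.mem_union, Perm.mem_support, Perm.mem_support, ax, ay]
    rcases hmv i with h | h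
    · exact Or.inl (fun e => h (ι.injective e))
    · exact Or.inr (fun e => h (ι.injective e))
  obtain ⟨fx, qx, ex⟩ := peel hx ι gx hgx (fun i _ => ax i) (fun i hi => by rw [ax, hi])
  obtain ⟨fy, qy, ey⟩ := peel hy ι gy hgy (fun i _ => ay i) (fun i hi => by rw [ay, hi])
  set x' := emb ι gx * x with hx'
  set y' := emb ι gy * y with hy'
  have hwin : ∀ g : Perm (Fin k), Within (emb ι g) (Finset.univ.map ι) :=
    fun g a ha => emb_notMem ι g ha
  have sx : x.support = (emb ι gx).support ∪ x'.support := by
    conv_lhs => rw [← ex, (disjoint_of (hwin gx) fx).support_mul]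
  have sy : y.support = (emb ι gy).support ∪ y'.support := by
    conv_lhs => rw [← ey, (disjoint_of (hwin gy) fy).support_mul]
  have hsub : x'.support ∪ y'.support ⊆ x.support ∪ y.support := by
    rw [sx, sy]; exact Finset.union_subset_union Finset.subset_union_right Finset.subset_union_right
  have hlt : (x'.support ∪ y'.support).card < (x.support ∪ y.support).card := by
    obtain ⟨i, hi⟩ := hne
    refine Finset.card_lt_card ((Finset.ssubset_iff_of_subset hsub).2 ⟨ι i, hU i, ?_⟩)
    rw [Finset.mem_union, Perm.mem_support, Perm.mem_support, fx _ (by simp), fy _ (by simp)]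
    simp
  have hc' : x'.support.card = y'.support.card := by
    have h1 := supp_mul (hwin gx) fx
    have h2 := supp_mul (hwin gy) fy
    rw [ex, emb_support, Finset.card_map] at h1
    rw [ey, emb_support, Finset.card_map] at h2
    omega
  obtain ⟨z, hz'⟩ := piece_add ι gx gy gz m hm hz hc hl hr hne fx fy (ih x' y' qx qy hc' hlt) hU hsub
  rw [ex, ey] at hz'
  exact Or.inl ⟨z, hz'⟩

/-- The embedding of a list without repetition. -/
def listEmb {k : ℕ} (f : Fin k → α) (hf : Function.Injective f) : Fin k ↪ α := ⟨f, hf⟩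

lemma step_double (hx : x * x = 1) (hy : y * y = 1) (hcard : x.support.card = y.support.card)
    (ih : ∀ x' y' : Perm α, x' * x' = 1 → y' * y' = 1 → x'.support.card = y'.support.card →
      (x'.support ∪ y'.support).card < (x.support ∪ y.support).card → Q x' y')
    {a : α} (ha : x a ≠ a) (hxy : y a = x a) : Q x y := by
  have hf : Function.Injective ![a, x a] := by
    intro i j hij
    fin_cases i <;> fin_cases j <;> first | rfl | exact absurd hij ha | exact absurd hij.symm ha
  refine step_piece ⟨![a, x a], hf⟩ (swap 0 1) (swap 0 1) (swap 0 1) 1 odd_one (by decide)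
    (by decide) (by decide) (by decide) ⟨0, by decide⟩ rfl (by decide) (by decide) (by decide)
    hx hy hcard ?_ ?_ ih
  · intro i; fin_cases i
    · rfl
    · exact apply_apply hx a
  · intro i; fin_cases i
    · exact hxy
    · show y (x a) = a
      rw [← hxy, apply_apply hy]

/-- Two or four edges from an endpoint. -/
lemma step_end (hx : x * x = 1) (hy : y * y = 1) (hcard : x.support.card = y.support.card)
    (ih : ∀ x' y' : Perm α, x' * x' = 1 → y' * y' = 1 → x'.support.card = y'.support.card →
      (x'.support ∪ y'.support).card < (x.support ∪ y.support).card → Q x' y')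
    {a b c : α} (h1 : x a = b) (h2 : y b = c) (hab : a ≠ b) (hbc : b ≠ c)
    (ha : y a = a) (hend : x c = c ∨ ∃ d e, x c = d ∧ y d = e ∧ c ≠ d ∧ d ≠ e ∧ x e = e) :
    Q x y := by
  have hac : a ≠ c := by
    intro e; subst e
    have h3 := congrArg y h2
    rw [apply_apply hy] at h3
    exact hab (h3.trans ha).symm
  rcases hend with hc | ⟨d, e, h3, h4, hcd, hde, he⟩
  · have hf : Function.Injective ![a, b, c] := by
      intro i j hij
      fin_cases i <;> fin_cases j <;> simp at hij ⊢ <;> exfalso <;> grind
    refine step_piece ⟨![a, b, c], hf⟩ (swap 0 1) (swap 1 2) (swap 0 1) 3 (by decide) (by decide)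
      (by decide) (by decide) (by decide) ⟨0, by decide⟩ (by decide) (by decide) (by decide)
      (by decide) hx hy hcard ?_ ?_ ih
    · intro i; fin_cases i
      · exact h1
      · show x b = a
        rw [← h1, apply_apply hx]
      · exact hc
    · intro i; fin_cases i
      · exact ha
      · exact h2
      · show y c = b
        rw [← h2, apply_apply hy]
  · have h1' : x b = a := by rw [← h1, apply_apply hx]
    have h2' : y c = b := by rw [← h2, apply_apply hy]
    have h3' : x d = c := by rw [← h3, apply_apply hx]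
    have h4' : y e = d := by rw [← h4, apply_apply hy]
    have hf : Function.Injective ![a, b, c, d, e] := by
      intro i j hij
      fin_cases i <;> fin_cases j <;> simp at hij ⊢ <;> exfalso <;> grind
    refine step_piece ⟨![a, b, c, d, e], hf⟩ (swap 0 1 * swap 2 3) (swap 1 2 * swap 3 4)
      (swap 0 1 * swap 2 3) 5 (by decide) (by decide) (by decide) (by decide) (by decide)
      ⟨0, by decide⟩ (by decide) (by decide) (by decide) (by decide) hx hy hcard ?_ ?_ ih
    · intro i; fin_cases i
      exacts [h1, h1', h3, h3', he]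
    · intro i; fin_cases i
      exacts [ha, h2, h2', h4, h4']

lemma step_pairs (hx : x * x = 1) (hy : y * y = 1) (hcard : x.support.card = y.support.card)
    (ih : ∀ x' y' : Perm α, x' * x' = 1 → y' * y' = 1 → x'.support.card = y'.support.card →
      (x'.support ∪ y'.support).card < (x.support ∪ y.support).card → Q x' y')
    {a a' : α} (ha : x a ≠ a) (hay : y a = a) (ha' : y a' ≠ a') (hax' : x a' = a')
    (hP : y (x a) = x a ∨
      (y (x a) ≠ x a ∧ x (y (x a)) ≠ y (x a) ∧ y (x (y (x a))) = x (y (x a))))
    (hP' : x (y a') = y a' ∨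
      (x (y a') ≠ y a' ∧ y (x (y a')) ≠ x (y a') ∧ x (y (x (y a'))) = y (x (y a')))) :
    Q x y := by
  have xx := apply_apply hx
  have yy := apply_apply hy
  rcases hP with hb | ⟨hbn, hc, hd⟩ <;> rcases hP' with hb' | ⟨hbn', hc', hd'⟩
  · have hf : Function.Injective ![a, x a, a', y a'] := by
      intro i j hij
      fin_cases i <;> fin_cases j <;> simp at hij ⊢ <;> exfalso <;> grind
    refine step_piece ⟨![a, x a, a', y a'], hf⟩ (swap 0 1) (swap 2 3) (swap 0 2) 3 (by decide)
      (by decide) (by decide) (by decide) (by decide) ⟨0, by decide⟩ (by decide) (by decide)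
      (by decide) (by decide) hx hy hcard ?_ ?_ ih
    · intro i; fin_cases i
      exacts [rfl, xx a, hax', hb']
    · intro i; fin_cases i
      exacts [hay, hb, rfl, yy a']
  · set b' := y a' with hb'def
    set c' := x b' with hc'def
    set d' := y c' with hd'def
    have hbd : b' ≠ a' := ha'
    have hf : Function.Injective ![a', b', c', d', a, x a] := by
      intro i j hij
      fin_cases i <;> fin_cases j <;> simp at hij ⊢ <;> exfalso <;> grind
    refine step_piece ⟨![a', b', c', d', a, x a], hf⟩ (swap 1 2 * swap 4 5)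
      (swap 0 1 * swap 2 3) (swap 1 2 * swap 3 4) 15 (by decide) (by decide) (by decide) (by decide)
      (by decide) ⟨1, by decide⟩ (by decide) (by decide) (by decide) (by decide) hx hy hcard ?_ ?_ ih
    · intro i; fin_cases i
      exacts [hax', rfl, xx b', hd', rfl, xx a]
    · intro i; fin_cases i
      exacts [rfl, yy a', rfl, yy c', hay, hb]
  · set b := x a with hbdef
    set c := y b with hcdef
    set d := x c with hddef
    have hbd : b ≠ a := ha
    have hf : Function.Injective ![a, b, c, d, a', y a'] := by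
      intro i j hij
      fin_cases i <;> fin_cases j <;> simp at hij ⊢ <;> exfalso <;> grind
    refine step_piece ⟨![a, b, c, d, a', y a'], hf⟩ (swap 0 1 * swap 2 3)
      (swap 1 2 * swap 4 5) (swap 1 2 * swap 3 4) 15 (by decide) (by decide) (by decide) (by decide)
      (by decide) ⟨1, by decide⟩ (by decide) (by decide) (by decide) (by decide) hx hy hcard ?_ ?_ ih
    · intro i; fin_cases i
      exacts [rfl, xx a, rfl, xx c, hax', hb']
    · intro i; fin_cases i
      exacts [hay, rfl, yy b, hd, rfl, yy a']
  · set b := x a with hbdef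
    set c := y b with hcdef
    set d := x c with hddef
    set b' := y a' with hb'def
    set c' := x b' with hc'def
    set d' := y c' with hd'def
    have hbd : b ≠ a := ha
    have hbd' : b' ≠ a' := ha'
    have hf : Function.Injective ![a, b, c, d, a', b', c', d'] := by
      intro i j hij
      fin_cases i <;> fin_cases j <;> simp at hij ⊢ <;> exfalso <;> grind
    refine step_piece ⟨![a, b, c, d, a', b', c', d'], hf⟩ (swap 0 1 * swap 2 3 * swap 5 6)
      (swap 1 2 * swap 4 5 * swap 6 7) (swap 1 2 * swap 3 4 * swap 5 6) 15 (by decide) (by decide)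
      (by decide) (by decide) (by decide) ⟨1, by decide⟩ (by decide) (by decide) (by decide)
      (by decide) hx hy hcard ?_ ?_ ih
    · intro i; fin_cases i
      exacts [rfl, xx a, rfl, xx c, hax', rfl, xx b', hd']
    · intro i; fin_cases i
      exacts [hay, rfl, yy b, hd, rfl, yy a', rfl, yy c']

lemma step_square (hx : x * x = 1) (hy : y * y = 1) (hcard : x.support.card = y.support.card)
    (ih : ∀ x' y' : Perm α, x' * x' = 1 → y' * y' = 1 → x'.support.card = y'.support.card →
      (x'.support ∪ y'.support).card < (x.support ∪ y.support).card → Q x' y')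
    (hne : ∀ a, x a ≠ a → y a ≠ x a)
    (ι : Fin 4 ↪ α) (ax : ∀ i, x (ι i) = ι ((swap 0 1 * swap 2 3 : Perm (Fin 4)) i))
    (ay : ∀ i, y (ι i) = ι ((swap 0 3 * swap 1 2 : Perm (Fin 4)) i)) : Q x y := by
  classical
  obtain ⟨fx, qx, ex⟩ := peel hx ι _ (by decide) (fun i _ => ax i) (fun i hi => by rw [ax, hi])
  obtain ⟨fy, qy, ey⟩ := peel hy ι _ (by decide) (fun i _ => ay i) (fun i hi => by rw [ay, hi])
  set gx : Perm (Fin 4) := swap 0 1 * swap 2 3 with hgx
  set gy : Perm (Fin 4) := swap 0 3 * swap 1 2 with hgy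
  set x' := emb ι gx * x with hx'
  set y' := emb ι gy * y with hy'
  have cx : (emb ι gx).support.card = 4 := by
    rw [emb_support, Finset.card_map]; decide
  have cy : (emb ι gy).support.card = 4 := by
    rw [emb_support, Finset.card_map]; decide
  have hwin : ∀ g : Perm (Fin 4), Within (emb ι g) (Finset.univ.map ι) :=
    fun g a ha => emb_notMem ι g ha
  have c1 := supp_mul (hwin gx) fx
  have c2 := supp_mul (hwin gy) fy
  rw [ex, cx] at c1
  rw [ey, cy] at c2
  have sx : x.support = (emb ι gx).support ∪ x'.support := by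
    conv_lhs => rw [← ex, (disjoint_of (hwin gx) fx).support_mul]
  have sy : y.support = (emb ι gy).support ∪ y'.support := by
    conv_lhs => rw [← ey, (disjoint_of (hwin gy) fy).support_mul]
  have hsub : x'.support ∪ y'.support ⊆ x.support ∪ y.support := by
    rw [sx, sy]; exact Finset.union_subset_union Finset.subset_union_right Finset.subset_union_right
  have hιU : ∀ i, ι i ∈ x.support ∪ y.support := fun i => by
    rw [sx, emb_support, Finset.mem_union, Finset.mem_union, Finset.mem_map']
    left; left; revert i; decide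
  have hlt : (x'.support ∪ y'.support).card < (x.support ∪ y.support).card := by
    refine Finset.card_lt_card ((Finset.ssubset_iff_of_subset hsub).2 ⟨ι 0, hιU 0, ?_⟩)
    rw [Finset.mem_union, Perm.mem_support, Perm.mem_support, fx _ (by simp), fy _ (by simp)]
    simp
  rcases ih x' y' qx qy (by omega) hlt with ⟨z, hz⟩ | ⟨κ, hxκ, hyκ⟩
  · by_cases hz1 : z = 1
    · refine Or.inr ⟨ι, ?_, ?_⟩ <;>
      · have h0 := hz.card
        rw [hz1] at h0
        simp only [Perm.support_one, Finset.card_empty, mul_zero] at h0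
        have hx0 : x' = 1 := Perm.support_eq_empty_iff.1 (Finset.card_eq_zero.1 (by omega))
        have hy0 : y' = 1 := Perm.support_eq_empty_iff.1 (Finset.card_eq_zero.1 (by omega))
        first
          | rw [← ex, hx0, mul_one]
          | rw [← ey, hy0, mul_one]
    · obtain ⟨a, ha⟩ : ∃ a, z a ≠ a := by
        by_contra h
        exact hz1 (Equiv.ext (fun a => not_not.1 (fun e => h ⟨a, e⟩)))
      have hdis : Disjoint (x'.support ∪ y'.support) (Finset.univ.map ι) := by
        rw [Finset.disjoint_union_left]; exact ⟨fixes_iff.1 fx, fixes_iff.1 fy⟩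
      have hzι : Fixes z (Finset.univ.map ι) := fun b hb =>
        hz.within b (Finset.disjoint_right.1 hdis hb)
      have hai : ∀ i, a ≠ ι i ∧ z a ≠ ι i := fun i =>
        ⟨fun e => ha (by rw [e]; exact hzι _ (by simp)),
          fun e => ha (by
            have h1 := congrArg z e
            rw [apply_apply hz.sq, hzι _ (by simp)] at h1
            rw [h1]; exact hzι _ (by simp))⟩
      let f : Fin 6 → α := ![a, ι 0, ι 1, ι 2, ι 3, z a]
      have hf : Function.Injective f := by
        intro i j hij
        fin_cases i <;> fin_cases j <;> first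
          | rfl
          | exact absurd (ι.injective hij) (by decide)
          | exact absurd hij (hai _).1
          | exact absurd hij.symm (hai _).1
          | exact absurd hij (hai _).2
          | exact absurd hij.symm (hai _).2
          | exact absurd hij.symm ha
          | exact absurd hij ha
      let τ : Fin 6 ↪ α := ⟨f, hf⟩
      have hfix : ∀ g : Perm α, Fixes g (Finset.univ.map ι) → Fixes g {τ 1, τ 2, τ 3, τ 4} := by
        intro g hg b hb
        refine hg b ?_
        simp only [Finset.mem_insert, Finset.mem_singleton] at hb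
        rcases hb with e | e | e | e <;> rw [e] <;> exact Finset.mem_map_of_mem ι (Finset.mem_univ _)
      have hzU : ∀ b, z b ≠ b → b ∈ x.support ∪ y.support := fun b hb =>
        hsub (not_not.1 (fun e => hb (hz.within b e)))
      obtain ⟨z', hz'⟩ := Mid.insert_square (W := x.support ∪ y.support) τ
        (fun j => by
          fin_cases j <;> first
            | exact hιU _
            | exact hzU _ ha
            | exact hzU _ (fun e => ha (by
                show z a = a
                have e' : z (z a) = z a := e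
                rw [apply_apply hz.sq] at e'
                exact e'.symm)))
        (fun b hb => hz.within b (fun e => hb (hsub e))) (hz.mono hsub) (hfix _ fx) (hfix _ fy)
        (hfix _ hzι) rfl
      refine Or.inl ⟨z', ?_⟩
      have e1 : emb τ (swap 1 2 * swap 3 4) = emb ι gx := by
        rw [hgx]; simp only [map_mul, emb_swap]; rfl
      have e2 : emb τ (swap 1 4 * swap 2 3) = emb ι gy := by
        rw [hgy]; simp only [map_mul, emb_swap]; rfl
      rwa [e1, e2, ex, ey] at hz'
  · -- two squares
    have hκ : ∀ j, κ j ∈ x'.support ∪ y'.support := fun j => by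
      rw [hxκ, emb_support, Finset.mem_union, Finset.mem_map']
      left; revert j; decide
    have hκι : ∀ i j, ι i ≠ κ j := by
      intro i j e
      have h := hκ j
      rw [← e, Finset.mem_union, Perm.mem_support, Perm.mem_support, fx _ (by simp),
        fy _ (by simp)] at h
      simp at h
    let f : Fin 8 → α := ![ι 0, ι 1, ι 2, ι 3, κ 0, κ 1, κ 2, κ 3]
    have hf : Function.Injective f := by
      intro i j hij
      fin_cases i <;> fin_cases j <;> first
        | rfl
        | exact absurd (ι.injective hij) (by decide)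
        | exact absurd (κ.injective hij) (by decide)
        | exact absurd hij (hκι _ _)
        | exact absurd hij.symm (hκι _ _)
    let τ : Fin 8 ↪ α := ⟨f, hf⟩
    have e1 : emb τ (swap 0 1 * swap 2 3 * (swap 4 5 * swap 6 7)) = x := by
      rw [← ex, hxκ, hgx]; simp only [map_mul, emb_swap]; rfl
    have e2 : emb τ (swap 0 3 * swap 1 2 * (swap 4 7 * swap 5 6)) = y := by
      rw [← ey, hyκ, hgy]; simp only [map_mul, emb_swap]; rfl
    have h := mid_emb τ (swap 0 1 * swap 2 3 * (swap 4 5 * swap 6 7))
      (swap 0 3 * swap 1 2 * (swap 4 7 * swap 5 6))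
      (swap 0 1 * swap 2 4 * swap 3 7 * swap 5 6) 3 (by decide) (by decide) (by decide)
      (by decide) (by decide)
    rw [e1, e2] at h
    refine Or.inl ⟨_, h.mono ?_⟩
    intro b hb
    obtain ⟨j, -, rfl⟩ := Finset.mem_map.1 hb
    fin_cases j <;> first | exact hιU _ | exact hsub (hκ _)

set_option maxHeartbeats 1000000 in
lemma step_contract (hx : x * x = 1) (hy : y * y = 1) (hcard : x.support.card = y.support.card)
    (ih : ∀ x' y' : Perm α, x' * x' = 1 → y' * y' = 1 → x'.support.card = y'.support.card →
      (x'.support ∪ y'.support).card < (x.support ∪ y.support).card → Q x' y')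
    (hne : ∀ a, x a ≠ a → y a ≠ x a)
    (hsq : ∀ a, x a ≠ a → y (x a) ≠ x a → x (y (x a)) ≠ y (x a) → y (x (y (x a))) ≠ a)
    {v : α} (h0 : y v ≠ v) (h1 : x v ≠ v) (h2 : y (x v) ≠ x v) (h3 : x (y (x v)) ≠ y (x v))
    (h4 : y (x (y (x v))) ≠ x (y (x v))) : Q x y := by
  classical
  have xx := apply_apply hx
  have yy := apply_apply hy
  have hne' : ∀ a, y a ≠ a → x a ≠ y a := by
    intro a ha e
    exact hne a (by rw [e]; exact ha) e.symm
  set v0 := y v with hv0
  set v2 := x v with hv2
  set v3 := y v2 with hv3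
  set v4 := x v3 with hv4
  set v5 := y v4 with hv5
  have s1 := hsq v h1 h2 h3
  have e30 : v3 ≠ v := fun e => hne v h1 (by
    have h' := congrArg y e
    rw [hv3, yy] at h'
    exact h'.symm)
  have hf : Function.Injective ![v0, v, v2, v3, v4, v5] := by
    intro i j hij
    fin_cases i <;> fin_cases j <;> simp at hij ⊢ <;> exfalso <;> grind
  let ι : Fin 6 ↪ α := ⟨![v0, v, v2, v3, v4, v5], hf⟩
  have ay : ∀ i, y (ι i) = ι ((swap 0 1 * swap 2 3 * swap 4 5 : Perm (Fin 6)) i) := by
    intro i; fin_cases i
    exacts [yy v, rfl, rfl, yy v2, rfl, yy v4]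
  have ax : ∀ i, (i = 1 ∨ i = 2 ∨ i = 3 ∨ i = 4) →
      x (ι i) = ι ((swap 1 2 * swap 3 4 : Perm (Fin 6)) i) := by
    intro i hi
    rcases hi with rfl | rfl | rfl | rfl
    exacts [rfl, xx v, rfl, xx v3]
  obtain ⟨fy, qy, ey⟩ := peel hy ι _ (by decide) (fun i _ => ay i) (fun i hi => by rw [ay, hi])
  let κ : Fin 4 ↪ α := ⟨![v, v2, v3, v4], by
    intro i j hij
    fin_cases i <;> fin_cases j <;> first
      | rfl
      | exact absurd (@hf 1 2 hij) (by decide)
      | exact absurd (@hf 1 3 hij) (by decide)
      | exact absurd (@hf 1 4 hij) (by decide)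
      | exact absurd (@hf 2 3 hij) (by decide)
      | exact absurd (@hf 2 4 hij) (by decide)
      | exact absurd (@hf 3 4 hij) (by decide)
      | exact absurd (@hf 2 1 hij) (by decide)
      | exact absurd (@hf 3 1 hij) (by decide)
      | exact absurd (@hf 4 1 hij) (by decide)
      | exact absurd (@hf 3 2 hij) (by decide)
      | exact absurd (@hf 4 2 hij) (by decide)
      | exact absurd (@hf 4 3 hij) (by decide)⟩
  have axκ : ∀ i, x (κ i) = κ ((swap 0 1 * swap 2 3 : Perm (Fin 4)) i) := by
    intro i; fin_cases i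
    exacts [rfl, xx v, rfl, xx v3]
  obtain ⟨fx, qx, ex⟩ := peel hx κ _ (by decide) (fun i _ => axκ i) (fun i hi => by rw [axκ, hi])
  have hqe : emb κ (swap 0 1 * swap 2 3) = emb ι (swap 1 2 * swap 3 4) := by
    simp only [map_mul, emb_swap]; rfl
  rw [hqe] at fx qx ex
  set gy : Perm (Fin 6) := swap 0 1 * swap 2 3 * swap 4 5 with hgy
  set x' := emb ι (swap 1 2 * swap 3 4) * x with hx'
  set yr := emb ι gy * y with hyr
  set L : Finset α := {ι 1, ι 2, ι 3, ι 4} with hL
  have fxL : Fixes x' L := by
    intro a ha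
    refine fx a ?_
    simp only [hL, Finset.mem_insert, Finset.mem_singleton] at ha
    rcases ha with e | e | e | e <;> rw [e]
    exacts [Finset.mem_map_of_mem κ (Finset.mem_univ 0), Finset.mem_map_of_mem κ (Finset.mem_univ 1),
      Finset.mem_map_of_mem κ (Finset.mem_univ 2), Finset.mem_map_of_mem κ (Finset.mem_univ 3)]
  have hqL : Within (emb ι (swap 1 2 * swap 3 4)) L := by
    rw [map_mul, emb_swap, emb_swap]
    exact (within_swap (by simp [hL]) (by simp [hL])).mul (within_swap (by simp [hL]) (by simp [hL]))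
  have hwin : ∀ g : Perm (Fin 6), Within (emb ι g) (Finset.univ.map ι) :=
    fun g a ha => emb_notMem ι g ha
  set y' := emb ι (swap 0 5) * yr with hy'
  have qy' : y' * y' = 1 := sq_mul (hwin _) fy
    (by rw [← map_mul, swap_mul_self, map_one]) qy
  have g6 : gy.support.card = 6 := by rw [hgy]; decide
  have g4 : (swap (1 : Fin 6) 2 * swap 3 4).support.card = 4 := by decide
  have g2 : (swap (0 : Fin 6) 5).support.card = 2 := by decide
  have c1 := supp_mul hqL fxL
  rw [ex, emb_support, Finset.card_map, g4] at c1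
  have c2 := supp_mul (hwin gy) fy
  rw [ey, emb_support, Finset.card_map, g6] at c2
  have c3 := supp_mul (hwin (swap 0 5)) fy
  rw [← hy', emb_support, Finset.card_map, g2] at c3
  have sx : x.support = (emb ι (swap 1 2 * swap 3 4)).support ∪ x'.support := by
    conv_lhs => rw [← ex, (disjoint_of hqL fxL).support_mul]
  have sy : y.support = (emb ι gy).support ∪ yr.support := by
    conv_lhs => rw [← ey, (disjoint_of (hwin gy) fy).support_mul]
  have hιU : ∀ i, ι i ∈ x.support ∪ y.support := fun i => by
    rw [sy, emb_support, Finset.mem_union, Finset.mem_union, Finset.mem_map']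
    right; left; revert i; rw [hgy]; decide
  have sy' : y'.support ⊆ y.support := by
    rw [hy', (disjoint_of (hwin _) fy).support_mul, sy]
    refine Finset.union_subset_union ?_ subset_rfl
    rw [emb_support, emb_support]
    exact Finset.map_subset_map.2 (by rw [hgy]; decide)
  have hsub : x'.support ∪ y'.support ⊆ x.support ∪ y.support :=
    Finset.union_subset_union (by rw [sx]; exact Finset.subset_union_right) sy'
  have hy'L : Fixes y' L := by
    intro a ha
    have ha' : ∃ i : Fin 6, i ≠ 0 ∧ i ≠ 5 ∧ a = ι i := by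
      simp only [hL, Finset.mem_insert, Finset.mem_singleton] at ha
      rcases ha with e | e | e | e
      exacts [⟨1, by decide, by decide, e⟩, ⟨2, by decide, by decide, e⟩,
        ⟨3, by decide, by decide, e⟩, ⟨4, by decide, by decide, e⟩]
    obtain ⟨i, i0, i5, rfl⟩ := ha'
    rw [hy', Perm.mul_apply, fy _ (by simp), emb_apply, swap_apply_of_ne_of_ne i0 i5]
  have hlt : (x'.support ∪ y'.support).card < (x.support ∪ y.support).card := by
    refine Finset.card_lt_card ((Finset.ssubset_iff_of_subset hsub).2 ⟨ι 1, hιU 1, ?_⟩)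
    rw [Finset.mem_union, Perm.mem_support, Perm.mem_support, fxL _ (by simp [hL]),
      hy'L _ (by simp [hL])]
    simp
  have hsd : x'.support ∪ y'.support ⊆ (x.support ∪ y.support) \ L :=
    Finset.subset_sdiff.2 ⟨hsub, by
      rw [Finset.disjoint_union_left]; exact ⟨fixes_iff.1 fxL, fixes_iff.1 hy'L⟩⟩
  rcases ih x' y' qx qy' (by omega) hlt with ⟨z, hz⟩ | ⟨σ, hxσ, hyσ⟩
  · have hmid : Mid x' (yr * emb ι (swap 0 5)) ((x.support ∪ y.support) \ L) z := by
      rw [← (disjoint_of (hwin _) fy).commute.eq]
      exact hz.mono hsd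
    obtain ⟨z', hz'⟩ := hmid.expand ι hιU fxL fy
    rw [← (disjoint_of (hwin gy) fy).commute.eq, ey, ← (disjoint_of hqL fxL).commute.eq, ex] at hz'
    exact Or.inl ⟨z', hz'⟩
  · -- an eight-cycle
    have hy05 : y' (ι 0) = ι 5 := by
      rw [hy', Perm.mul_apply, fy _ (by simp), emb_apply, swap_apply_left]
    have hy50 : y' (ι 5) = ι 0 := by
      rw [hy', Perm.mul_apply, fy _ (by simp), emb_apply, swap_apply_right]
    -- the two other corners
    obtain ⟨c, d, hc0, hd5, hcd, hxe, hye, hcι, hdι⟩ : ∃ c d, x' (ι 0) = c ∧ x' (ι 5) = d ∧ c ≠ d ∧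
        x' = swap (ι 0) c * swap (ι 5) d ∧ yr = swap c d ∧ c ∉ Finset.univ.map ι ∧
        d ∉ Finset.univ.map ι := by
      obtain ⟨j, hj⟩ : ∃ j, σ j = ι 0 := by
        by_contra h
        simp only [not_exists] at h
        have : y' (ι 0) = ι 0 := by
          rw [hyσ]; refine emb_notMem σ _ ?_
          simp only [Finset.mem_map, Finset.mem_univ, true_and, not_exists]; exact h
        rw [hy05] at this
        exact absurd (ι.injective this) (by decide)
      set gX : Perm (Fin 4) := swap 0 1 * swap 2 3 with hgX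
      set gY : Perm (Fin 4) := swap 0 3 * swap 1 2 with hgY
      have hk : σ (gY j) = ι 5 := by rw [← hy05, ← hj, hyσ, emb_apply]
      have hall : ∀ j : Fin 4, gX j ≠ j ∧ gX j ≠ gY j ∧ gX (gY j) ≠ j ∧ gX j ≠ gX (gY j) ∧
          gX (gY j) ≠ gY j ∧ gX = swap j (gX j) * swap (gY j) (gX (gY j)) ∧
          gY = swap j (gY j) * swap (gX j) (gX (gY j)) := by
        rw [hgX, hgY]; decide
      obtain ⟨p1, p2, p3, p4, p5, p6, p7⟩ := hall j
      have hin : ∀ l, l ≠ j → l ≠ gY j → σ l ∉ Finset.univ.map ι := by
        intro l hl1 hl2 hm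
        obtain ⟨i, -, hi⟩ := Finset.mem_map.1 hm
        have hi' : i = 0 ∨ i = 5 := by
          by_contra hcon
          have hL' : σ l ∈ L := by
            rw [← hi, hL]
            fin_cases i <;> simp at hcon ⊢
          have hfix : x' (σ l) = σ l := fxL _ hL'
          rw [hxσ, emb_apply] at hfix
          have hmv : ∀ l : Fin 4, gX l ≠ l := by rw [hgX]; decide
          exact hmv l (σ.injective hfix)
        rcases hi' with rfl | rfl
        · exact hl1 (σ.injective (hi.symm.trans hj.symm))
        · exact hl2 (σ.injective (hi.symm.trans hk.symm))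
      refine ⟨σ (gX j), σ (gX (gY j)), by rw [← hj, hxσ, emb_apply],
        by rw [← hk, hxσ, emb_apply], fun e => p4 (σ.injective e), ?_, ?_, hin _ p1 p2, hin _ p3 p5⟩
      · rw [hxσ]
        conv_lhs => rw [p6]
        rw [map_mul, emb_swap, emb_swap, hj, hk]
      · have h5 : y' = swap (ι 0) (ι 5) * swap (σ (gX j)) (σ (gX (gY j))) := by
          rw [hyσ]
          conv_lhs => rw [p7]
          rw [map_mul, emb_swap, emb_swap, hj, hk]
        calc yr = emb ι (swap 0 5) * y' := by
              rw [hy', ← mul_assoc, ← map_mul, swap_mul_self, map_one, one_mul]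
          _ = swap (σ (gX j)) (σ (gX (gY j))) := by
              rw [emb_swap, h5, ← mul_assoc, swap_mul_self, one_mul]
    have hn : ∀ i, c ≠ ι i ∧ d ≠ ι i := fun i =>
      ⟨fun e => hcι (by rw [e]; simp), fun e => hdι (by rw [e]; simp)⟩
    let f : Fin 8 → α := ![ι 0, ι 1, ι 2, ι 3, ι 4, ι 5, c, d]
    have hf8 : Function.Injective f := by
      intro i j hij
      fin_cases i <;> fin_cases j <;> first
        | rfl
        | exact absurd (ι.injective hij) (by decide)
        | exact absurd hij (hn _).1
        | exact absurd hij.symm (hn _).1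
        | exact absurd hij (hn _).2
        | exact absurd hij.symm (hn _).2
        | exact absurd hij hcd
        | exact absurd hij.symm hcd
    let τ : Fin 8 ↪ α := ⟨f, hf8⟩
    have e1 : emb τ (swap 1 2 * swap 3 4 * (swap 0 6 * swap 5 7)) = x := by
      rw [← ex, hxe]; simp only [map_mul, emb_swap]; rfl
    have e2 : emb τ (swap 0 1 * swap 2 3 * swap 4 5 * swap 6 7) = y := by
      rw [← ey, hye, hgy]; simp only [map_mul, emb_swap]; rfl
    have h := mid_emb τ (swap 1 2 * swap 3 4 * (swap 0 6 * swap 5 7))
      (swap 0 1 * swap 2 3 * swap 4 5 * swap 6 7)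
      (swap 0 1 * swap 2 4 * swap 3 6 * swap 5 7) 3 (by decide) (by decide) (by decide)
      (by decide) (by decide)
    rw [e1, e2] at h
    refine Or.inl ⟨_, h.mono ?_⟩
    intro b hb
    obtain ⟨i, -, rfl⟩ := Finset.mem_map.1 hb
    rw [Finset.mem_union, Perm.mem_support, Perm.mem_support]
    right
    rw [← e2, emb_apply]
    intro e
    exact (show ∀ i : Fin 8, (swap (0 : Fin 8) 1 * swap 2 3 * swap 4 5 * swap 6 7 : Perm (Fin 8)) i ≠ i
      by decide) i (τ.injective e)

theorem q_all : ∀ (n : ℕ) (x y : Perm α), (x.support ∪ y.support).card = n → x * x = 1 →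
    y * y = 1 → x.support.card = y.support.card → Q x y := by
  classical
  intro n
  induction n using Nat.strong_induction_on with
  | _ n IH =>
  intro x y hn hx hy hcard
  subst hn
  have ih : ∀ x' y' : Perm α, x' * x' = 1 → y' * y' = 1 → x'.support.card = y'.support.card →
      (x'.support ∪ y'.support).card < (x.support ∪ y.support).card → Q x' y' :=
    fun x' y' h1 h2 h3 h4 => IH _ h4 x' y' rfl h1 h2 h3
  have ih' : ∀ x' y' : Perm α, x' * x' = 1 → y' * y' = 1 → x'.support.card = y'.support.card →
      (x'.support ∪ y'.support).card < (y.support ∪ x.support).card → Q x' y' := by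
    rw [Finset.union_comm y.support]; exact ih
  have xx := apply_apply hx
  have yy := apply_apply hy
  by_cases hdb : ∃ a, x a ≠ a ∧ y a = x a
  · obtain ⟨a, h1, h2⟩ := hdb
    exact step_double hx hy hcard ih h1 h2
  simp only [not_exists, not_and] at hdb
  have hdb' : ∀ a, y a ≠ a → x a ≠ y a := by
    intro a ha e
    exact hdb a (by rw [e]; exact ha) e.symm
  by_cases hsq : ∃ a, x a ≠ a ∧ y (x a) ≠ x a ∧ x (y (x a)) ≠ y (x a) ∧ y (x (y (x a))) = a
  · obtain ⟨a, h1, h2, h3, h4⟩ := hsq
    set b := x a with hb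
    set c := y b with hc
    set d := x c with hd
    have e1 : y a = d := by rw [← h4, yy]
    have hac : a ≠ c := fun e => hdb a h1 (by
      have h' := congrArg y e
      rwa [hc, yy] at h')
    have hf : Function.Injective ![a, b, c, d] := by
      intro i j hij
      fin_cases i <;> fin_cases j <;> simp at hij ⊢ <;> exfalso <;> grind
    refine step_square hx hy hcard ih hdb ⟨![a, b, c, d], hf⟩ ?_ ?_
    · intro i; fin_cases i
      exacts [rfl, xx a, rfl, xx c]
    · intro i; fin_cases i
      exacts [e1, rfl, yy b, h4]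
  simp only [not_exists, not_and] at hsq
  by_cases hp : ∃ v, y v ≠ v ∧ x v ≠ v ∧ y (x v) ≠ x v ∧ x (y (x v)) ≠ y (x v) ∧
      y (x (y (x v))) ≠ x (y (x v))
  · obtain ⟨v, h0, h1, h2, h3, h4⟩ := hp
    exact step_contract hx hy hcard ih hdb hsq h0 h1 h2 h3 h4
  by_cases hp' : ∃ v, x v ≠ v ∧ y v ≠ v ∧ x (y v) ≠ y v ∧ y (x (y v)) ≠ x (y v) ∧
      x (y (x (y v))) ≠ y (x (y v))
  · obtain ⟨v, h0, h1, h2, h3, h4⟩ := hp'
    refine (step_contract hy hx hcard.symm ih' hdb' ?_ h0 h1 h2 h3 h4).symm
    intro a ha1 ha2 ha3 e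
    -- the same square read from `y a`
    refine hsq (y a) ha2 ha3 (fun e' => ha2 ?_) (by rw [e])
    have h' := congrArg y (e.symm.trans e')
    rw [yy] at h'
    exact h'.symm
  simp only [not_exists, not_and] at hp hp'
  by_cases hU : (x.support ∪ y.support).Nonempty
  swap
  · refine Or.inl ⟨1, one_mul 1, ?_, within_one _, ?_, ?_⟩
    all_goals
      rw [Finset.not_nonempty_iff_eq_empty, Finset.union_eq_empty] at hU
    · simp [hU.1, hU.2]
    · rw [mul_one, Perm.support_eq_empty_iff.1 hU.1]; exact oddPow_one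
    · rw [mul_one, Perm.support_eq_empty_iff.1 hU.2]; exact oddPow_one
  -- the shape of the component of an endpoint
  have shapeX : ∀ a, x a ≠ a → y a = a → ¬ Q x y →
      (y (x a) = x a ∨
        (y (x a) ≠ x a ∧ x (y (x a)) ≠ y (x a) ∧ y (x (y (x a))) = x (y (x a)))) := by
    intro a ha hya hQ
    by_cases hb : y (x a) = x a
    · exact Or.inl hb
    right
    have hc : x (y (x a)) ≠ y (x a) := fun hc =>
      hQ (step_end hx hy hcard ih rfl rfl (Ne.symm ha) (Ne.symm hb) hya (Or.inl hc))
    refine ⟨hb, hc, ?_⟩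
    by_contra hd
    have he : x (y (x (y (x a)))) = y (x (y (x a))) := by
      refine not_not.1 (hp' (x a) ?_ hb hc hd)
      rw [xx]; exact Ne.symm ha
    exact hQ (step_end hx hy hcard ih rfl rfl (Ne.symm ha) (Ne.symm hb) hya
      (Or.inr ⟨_, _, rfl, rfl, Ne.symm hc, Ne.symm hd, he⟩))
  have shapeY : ∀ a, y a ≠ a → x a = a → ¬ Q x y →
      (x (y a) = y a ∨
        (x (y a) ≠ y a ∧ y (x (y a)) ≠ x (y a) ∧ x (y (x (y a))) = y (x (y a)))) := by
    intro a ha hxa hQ
    by_cases hb : x (y a) = y a
    · exact Or.inl hb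
    right
    have hc : y (x (y a)) ≠ x (y a) := fun hc =>
      hQ (step_end hy hx hcard.symm ih' rfl rfl (Ne.symm ha) (Ne.symm hb) hxa (Or.inl hc)).symm
    refine ⟨hb, hc, ?_⟩
    by_contra hd
    have he : y (x (y (x (y a)))) = x (y (x (y a))) := by
      refine not_not.1 (hp (y a) ?_ hb hc hd)
      rw [yy]; exact Ne.symm ha
    exact hQ (step_end hy hx hcard.symm ih' rfl rfl (Ne.symm ha) (Ne.symm hb) hxa
      (Or.inr ⟨_, _, rfl, rfl, Ne.symm hc, Ne.symm hd, he⟩)).symm
  by_contra hQ
  have hend : (∃ a, x a ≠ a ∧ y a = a) ∧ (∃ a, y a ≠ a ∧ x a = a) := by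
    have some : (∃ a, x a ≠ a ∧ y a = a) ∨ (∃ a, y a ≠ a ∧ x a = a) := by
      by_contra h
      simp only [not_or, not_exists, not_and] at h
      obtain ⟨hA, hB⟩ := h
      obtain ⟨m, hm⟩ := hU
      have hxy : ∀ a, x a ≠ a ↔ y a ≠ a := fun a => ⟨hA a, hB a⟩
      have hm1 : x m ≠ m := by
        rcases Finset.mem_union.1 hm with h | h
        · exact Perm.mem_support.1 h
        · exact (hxy m).2 (Perm.mem_support.1 h)
      have hx1 : ∀ a, x a ≠ a → x (x a) ≠ x a := fun a ha => by rw [xx]; exact Ne.symm ha
      have hy1 : ∀ a, y a ≠ a → y (y a) ≠ y a := fun a ha => by rw [yy]; exact Ne.symm ha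
      have m2 := (hxy _).1 (hx1 m hm1)
      have m3 := (hxy _).2 (hy1 _ m2)
      exact hp m ((hxy m).1 hm1) hm1 m2 m3 ((hxy _).1 (hx1 _ m3))
    constructor
    · rcases some with h | ⟨a, h1, h2⟩
      · exact h
      by_contra h
      simp only [not_exists, not_and] at h
      have hss : x.support ⊂ y.support := by
        rw [Finset.ssubset_iff_of_subset (fun b hb =>
          Perm.mem_support.2 (h b (Perm.mem_support.1 hb)))]
        exact ⟨a, Perm.mem_support.2 h1, fun hb => Perm.mem_support.1 hb h2⟩
      exact (Finset.card_lt_card hss).ne hcard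
    · rcases some with ⟨a, h1, h2⟩ | h
      swap; · exact h
      by_contra h
      simp only [not_exists, not_and] at h
      have hss : y.support ⊂ x.support := by
        rw [Finset.ssubset_iff_of_subset (fun b hb =>
          Perm.mem_support.2 (h b (Perm.mem_support.1 hb)))]
        exact ⟨a, Perm.mem_support.2 h1, fun hb => Perm.mem_support.1 hb h2⟩
      exact (Finset.card_lt_card hss).ne hcard.symm
  obtain ⟨⟨a, h1, h2⟩, a', h1', h2'⟩ := hend
  exact hQ (step_pairs hx hy hcard ih h1 h2 h1' h2' (shapeX a h1 h2 hQ) (shapeY a' h1' h2' hQ))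

/-- Any two involutions of the same cycle type have a common odd-order neighbour. -/
theorem exists_mid (hn : 5 ≤ Fintype.card α) (hx : x * x = 1) (hy : y * y = 1)
    (hcard : x.support.card = y.support.card) :
    ∃ z, z * z = 1 ∧ z.support.card = x.support.card ∧ OddPow (x * z) ∧ OddPow (y * z) := by
  classical
  rcases q_all _ x y rfl hx hy hcard with ⟨z, hz⟩ | ⟨ι, hxι, hyι⟩
  · exact ⟨z, hz.sq, by have := hz.card; omega, hz.left, hz.right⟩
  · obtain ⟨w, -, hw⟩ := Finset.exists_mem_notMem_of_card_lt_card (s := Finset.univ.map ι)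
      (t := (Finset.univ : Finset α)) (by rw [Finset.card_map, Finset.card_univ,
        Finset.card_univ, Fintype.card_fin]; omega)
    have hw' : ∀ i, ι i ≠ w := fun i e => hw (by rw [← e]; simp)
    let f : Fin 5 → α := ![ι 0, ι 1, ι 2, ι 3, w]
    have hf : Function.Injective f := by
      intro i j hij
      fin_cases i <;> fin_cases j <;> first
        | rfl
        | exact absurd (ι.injective hij) (by decide)
        | exact absurd hij (hw' _)
        | exact absurd hij.symm (hw' _)
    let τ : Fin 5 ↪ α := ⟨f, hf⟩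
    have h := mid_emb τ (swap 0 1 * swap 2 3) (swap 0 3 * swap 1 2) (swap 0 2 * swap 1 4) 5
      (by decide) (by decide) (by decide) (by decide) (by decide)
    have e1 : emb τ (swap 0 1 * swap 2 3) = x := by
      rw [hxι]; simp only [map_mul, emb_swap]; rfl
    have e2 : emb τ (swap 0 3 * swap 1 2) = y := by
      rw [hyι]; simp only [map_mul, emb_swap]; rfl
    rw [e1, e2] at h
    exact ⟨_, h.sq, by have := h.card; omega, h.left, h.right⟩

end Cfsg.Agent.Lib.OddProductPerm
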