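import Cfsg.Agent.Lib.OddProductPerm.Insert

/-!
# Steps of the induction: disjoint pieces, contraction, insertion of a square
-/

set_option autoImplicit false

namespace Cfsg.Agent.Lib.OddProductPerm

open Equiv

variable {α : Type*} [Fintype α] [DecidableEq α]

/-- Fixing every point of `L`. -/
def Fixes (g : Perm α) (L : Finset α) : Prop := ∀ a ∈ L, g a = a

/-- Moving no point outside `L`. -/
def Within (g : Perm α) (L : Finset α) : Prop := ∀ a, a ∉ L → g a = a

lemma Fixes.mul {g h : Perm α} {L : Finset α} (hg : Fixes g L) (hh : Fixes h L) : Fixes (g * h) L :=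
  fun a ha => by rw [Perm.mul_apply, hh a ha, hg a ha]

lemma Within.mul {g h : Perm α} {L : Finset α} (hg : Within g L) (hh : Within h L) :
    Within (g * h) L :=
  fun a ha => by rw [Perm.mul_apply, hh a ha, hg a ha]

lemma within_swap {L : Finset α} {a b : α} (ha : a ∈ L) (hb : b ∈ L) : Within (swap a b) L :=
  fun _ hc => swap_apply_of_ne_of_ne (fun e => hc (e ▸ ha)) (fun e => hc (e ▸ hb))

lemma within_one (L : Finset α) : Within (1 : Perm α) L := fun _ _ => rfl

lemma disjoint_of {g h : Perm α} {L : Finset α} (hg : Within g L) (hh : Fixes h L) :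
    g.Disjoint h := fun a => by
  by_cases ha : a ∈ L
  · exact Or.inr (hh a ha)
  · exact Or.inl (hg a ha)

lemma fixes_iff {g : Perm α} {L : Finset α} : Fixes g L ↔ Disjoint g.support L := by
  rw [Finset.disjoint_right]
  simp only [Fixes, Perm.mem_support, not_not]

lemma supp_mul {g h : Perm α} {L : Finset α} (hg : Within g L) (hh : Fixes h L) :
    (g * h).support.card = g.support.card + h.support.card :=
  (disjoint_of hg hh).card_support_mul

lemma sq_mul {g h : Perm α} {L : Finset α} (hg : Within g L) (hh : Fixes h L) (g2 : g * g = 1)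
    (h2 : h * h = 1) : (g * h) * (g * h) = 1 := by
  have hc : Commute g h := (disjoint_of hg hh).commute
  rw [hc.symm.mul_mul_mul_comm g h, g2, h2, one_mul]

/-- The witness we construct: a third involution. -/
structure Mid (x y : Perm α) (W : Finset α) (z : Perm α) : Prop where
  sq : z * z = 1
  card : 2 * z.support.card = x.support.card + y.support.card
  within : Within z W
  left : OddPow (x * z)
  right : OddPow (y * z)

lemma Mid.symm {x y z : Perm α} {W : Finset α} (h : Mid x y W z) : Mid y x W z :=
  ⟨h.sq, by rw [h.card, add_comm], h.within, h.right, h.left⟩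

/-- Two disjoint pieces. -/
theorem Mid.add {x y z xl yl zl : Perm α} {L W : Finset α} (hLW : L ⊆ W) (hxl : Within xl L)
    (hyl : Within yl L) (hl : Mid xl yl L zl) (hx : Fixes x L) (hy : Fixes y L)
    (h : Mid x y (W \ L) z) : Mid (xl * x) (yl * y) W (zl * z) := by
  have hz : Fixes z L := fun a ha => h.within a (fun e => (Finset.mem_sdiff.1 e).2 ha)
  have key : ∀ u ul : Perm α, Within ul L → Fixes u L → OddPow (ul * zl) → OddPow (u * z) →
      OddPow ((ul * u) * (zl * z)) := by
    intro u ul hul hu e1 e2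
    rw [(disjoint_of hl.within hu).commute.symm.mul_mul_mul_comm ul z]
    exact e1.mul (disjoint_of (hul.mul hl.within) (hu.mul hz)).commute e2
  refine ⟨sq_mul hl.within hz hl.sq h.sq, ?_, ?_, key x xl hxl hx hl.left h.left,
    key y yl hyl hy hl.right h.right⟩
  · rw [supp_mul hl.within hz, supp_mul hxl hx, supp_mul hyl hy]
    have := hl.card; have := h.card; omega
  · intro a ha
    rw [Perm.mul_apply, h.within a (fun e => ha (Finset.mem_sdiff.1 e).1),
      hl.within a (fun e => ha (hLW e))]

/-- Embedding of concrete permutations. -/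
noncomputable def emb {k : ℕ} (ι : Fin k ↪ α) : Perm (Fin k) →* Perm α := Perm.viaEmbeddingHom ι

lemma emb_apply {k : ℕ} (ι : Fin k ↪ α) (g : Perm (Fin k)) (i : Fin k) :
    emb ι g (ι i) = ι (g i) := by
  rw [emb, Perm.viaEmbeddingHom_apply, Perm.viaEmbedding_apply]

lemma emb_notMem {k : ℕ} (ι : Fin k ↪ α) (g : Perm (Fin k)) {a : α}
    (ha : a ∉ Finset.univ.map ι) : emb ι g a = a := by
  rw [emb, Perm.viaEmbeddingHom_apply, Perm.viaEmbedding_apply_of_notMem]
  rintro ⟨i, rfl⟩
  exact ha (by simp)

lemma emb_swap {k : ℕ} (ι : Fin k ↪ α) (i j : Fin k) : emb ι (swap i j) = swap (ι i) (ι j) := by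
  ext a
  by_cases ha : a ∈ Finset.univ.map ι
  · obtain ⟨l, -, rfl⟩ := Finset.mem_map.1 ha
    rw [emb_apply, ι.injective.swap_apply]
  · rw [emb_notMem ι _ ha, swap_apply_of_ne_of_ne] <;> rintro rfl <;> exact ha (by simp)

lemma emb_support {k : ℕ} (ι : Fin k ↪ α) (g : Perm (Fin k)) :
    (emb ι g).support = g.support.map ι := by
  ext a
  by_cases ha : a ∈ Finset.univ.map ι
  · obtain ⟨l, -, rfl⟩ := Finset.mem_map.1 ha
    simp [emb_apply]
  · rw [Perm.mem_support, emb_notMem ι _ ha]
    simp only [ne_eq, not_true, false_iff, Finset.mem_map, not_exists, not_and]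
    rintro l - rfl
    exact ha (by simp)

/-- A piece given by concrete permutations. -/
theorem mid_emb {k : ℕ} (ι : Fin k ↪ α) (gx gy gz : Perm (Fin k)) (m : ℕ) (hm : Odd m)
    (hz : gz * gz = 1) (hc : 2 * gz.support.card = gx.support.card + gy.support.card)
    (hl : (gx * gz) ^ m = 1) (hr : (gy * gz) ^ m = 1) :
    Mid (emb ι gx) (emb ι gy) (Finset.univ.map ι) (emb ι gz) := by
  refine ⟨by rw [← map_mul, hz, map_one], by simpa [emb_support] using hc,
    fun a ha => emb_notMem ι _ ha, ⟨m, hm, ?_⟩, ⟨m, hm, ?_⟩⟩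
  · rw [← map_mul, ← map_pow, hl, map_one]
  · rw [← map_mul, ← map_pow, hr, map_one]

/-- A square together with an edge of `z`: insertion. -/
theorem Mid.insert_square {x y z : Perm α} {W : Finset α} (ι : Fin 6 ↪ α)
    (hι : ∀ i, ι i ∈ W) (hzW : Within z W) (h : Mid x y W z)
    (hx : Fixes x {ι 1, ι 2, ι 3, ι 4}) (hy : Fixes y {ι 1, ι 2, ι 3, ι 4})
    (hz : Fixes z {ι 1, ι 2, ι 3, ι 4}) (hab : z (ι 0) = ι 5) :
    ∃ z', Mid (emb ι (swap 1 2 * swap 3 4) * x) (emb ι (swap 1 4 * swap 2 3) * y) W z' := by
  classical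
  set L : Finset α := {ι 1, ι 2, ι 3, ι 4} with hL
  set z₁ := z * swap (ι 0) (ι 5) with hz₁
  have hz50 : z (ι 5) = ι 0 := by
    rw [← hab, ← Perm.mul_apply, h.sq]; rfl
  have hz0 : Fixes z₁ (Finset.univ.map ι) := by
    intro a ha
    obtain ⟨i, -, rfl⟩ := Finset.mem_map.1 ha
    rw [hz₁, Perm.mul_apply]
    fin_cases i
    · simpa using hz50
    · rw [swap_apply_of_ne_of_ne (ι.injective.ne (by decide)) (ι.injective.ne (by decide))]
      exact hz _ (by simp [hL])
    · rw [swap_apply_of_ne_of_ne (ι.injective.ne (by decide)) (ι.injective.ne (by decide))]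
      exact hz _ (by simp [hL])
    · rw [swap_apply_of_ne_of_ne (ι.injective.ne (by decide)) (ι.injective.ne (by decide))]
      exact hz _ (by simp [hL])
    · rw [swap_apply_of_ne_of_ne (ι.injective.ne (by decide)) (ι.injective.ne (by decide))]
      exact hz _ (by simp [hL])
    · simpa using hab
  have hzeq : z = z₁ * swap (ι 0) (ι 5) := by rw [hz₁, mul_assoc, swap_mul_self, mul_one]
  have hwin : ∀ g : Perm (Fin 6), Within (emb ι g) (Finset.univ.map ι) :=
    fun g a ha => emb_notMem ι g ha
  have hcomm : ∀ g : Perm (Fin 6), Commute (emb ι g) z₁ := fun g =>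
    (disjoint_of (hwin g) hz0).commute
  have hz₁sq : z₁ * z₁ = 1 := by
    have h1 := h.sq
    rw [hzeq, ← emb_swap, (hcomm (swap 0 5)).mul_mul_mul_comm, ← map_mul, swap_mul_self,
      map_one, mul_one] at h1
    exact h1
  refine ⟨z₁ * emb ι (swap 0 2 * swap 1 3 * swap 4 5), ?_, ?_, ?_, ?_, ?_⟩
  · rw [(hcomm _).mul_mul_mul_comm, hz₁sq, ← map_mul, one_mul,
      show swap (0 : Fin 6) 2 * swap 1 3 * swap 4 5 * (swap 0 2 * swap 1 3 * swap 4 5) = 1 by decide,
      map_one]
  · have hxL : (emb ι (swap 1 2 * swap 3 4)).support.card = 4 := by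
      rw [emb_support, Finset.card_map]; decide
    have hyL : (emb ι (swap 1 4 * swap 2 3)).support.card = 4 := by
      rw [emb_support, Finset.card_map]; decide
    have hw : ∀ g : Perm (Fin 6), g 0 = 0 → g 5 = 5 → Within (emb ι g) L := by
      intro g g0 g5 a ha
      by_cases hm : a ∈ Finset.univ.map ι
      · obtain ⟨i, -, rfl⟩ := Finset.mem_map.1 hm
        rw [emb_apply]
        fin_cases i <;>
          first
          | exact congrArg ι g0
          | exact congrArg ι g5
          | (exfalso; exact ha (by simp [hL]))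
      · exact emb_notMem ι g hm
    have e1 := supp_mul (hw _ (by decide) (by decide)) hx (g := emb ι (swap 1 2 * swap 3 4))
    have e2 := supp_mul (hw _ (by decide) (by decide)) hy (g := emb ι (swap 1 4 * swap 2 3))
    have e3 := supp_mul (hwin (swap 0 5)) hz0
    have e4 := supp_mul (hwin (swap 0 2 * swap 1 3 * swap 4 5)) hz0
    rw [← (hcomm _).eq, e4, e1, e2, hxL, hyL, emb_support, Finset.card_map]
    rw [emb_support, Finset.card_map, (hcomm (swap 0 5)).eq, emb_swap, ← hzeq] at e3
    have hc := h.card
    have c2 : (swap (0 : Fin 6) 5).support.card = 2 := by decide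
    have c6 : (swap (0 : Fin 6) 2 * swap 1 3 * swap 4 5).support.card = 6 := by decide
    rw [c2] at e3
    rw [c6]
    omega
  · intro a ha
    have hm : a ∉ Finset.univ.map ι := by
      intro hm
      obtain ⟨i, -, rfl⟩ := Finset.mem_map.1 hm
      exact ha (hι i)
    have hsw : swap (ι 0) (ι 5) a = a := by
      rw [← emb_swap]; exact emb_notMem ι _ hm
    rw [Perm.mul_apply, emb_notMem ι _ hm, hz₁, Perm.mul_apply, hsw]
    exact hzW a ha
  all_goals
    first
    | (have key := h.left
       have hσ : Fixes (x * z) L := hx.mul hz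
       rw [show emb ι (swap 1 2 * swap 3 4) * x * (z₁ * emb ι (swap 0 2 * swap 1 3 * swap 4 5)) =
          (x * z) * tri (ι 0) (ι 1) (ι 4) * tri (ι 5) (ι 3) (ι 2) by
        have hd : emb ι (swap 1 2 * swap 3 4) * x = x * emb ι (swap 1 2 * swap 3 4) := by
          refine (disjoint_of (L := L) ?_ hx).commute.eq
          intro a ha
          rw [map_mul, emb_swap, emb_swap]
          exact (within_swap (L := L) (by simp [hL]) (by simp [hL])).mul
            (within_swap (by simp [hL]) (by simp [hL])) a ha
        have e : swap (1 : Fin 6) 2 * swap 3 4 * (swap 0 2 * swap 1 3 * swap 4 5) =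
            swap 0 5 * (swap 0 1 * swap 1 4) * (swap 5 3 * swap 3 2) := by decide
        rw [hd, mul_assoc, ← mul_assoc (emb ι _) z₁, (hcomm _).eq, mul_assoc z₁, ← map_mul, e]
        simp only [map_mul, emb_swap, tri]
        rw [hzeq]
        simp only [mul_assoc]]
       refine (key.mul_tri (ι.injective.ne (by decide)) (ι.injective.ne (by decide))
          (ι.injective.ne (by decide)) (hσ _ (by simp [hL])) (hσ _ (by simp [hL]))).mul_tri
          (ι.injective.ne (by decide)) (ι.injective.ne (by decide)) (ι.injective.ne (by decide)) ?_ ?_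
       all_goals
        rw [Perm.mul_apply, tri_other (ι.injective.ne (by decide)) (ι.injective.ne (by decide))
          (ι.injective.ne (by decide))]
        exact hσ _ (by simp [hL]))
    | (have key := h.right
       have hσ : Fixes (y * z) L := hy.mul hz
       rw [show emb ι (swap 1 4 * swap 2 3) * y * (z₁ * emb ι (swap 0 2 * swap 1 3 * swap 4 5)) =
          (y * z) * tri (ι 0) (ι 3) (ι 4) * tri (ι 5) (ι 1) (ι 2) by
        have hd : emb ι (swap 1 4 * swap 2 3) * y = y * emb ι (swap 1 4 * swap 2 3) := by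
          refine (disjoint_of (L := L) ?_ hy).commute.eq
          intro a ha
          rw [map_mul, emb_swap, emb_swap]
          exact (within_swap (L := L) (by simp [hL]) (by simp [hL])).mul
            (within_swap (by simp [hL]) (by simp [hL])) a ha
        have e : swap (1 : Fin 6) 4 * swap 2 3 * (swap 0 2 * swap 1 3 * swap 4 5) =
            swap 0 5 * (swap 0 3 * swap 3 4) * (swap 5 1 * swap 1 2) := by decide
        rw [hd, mul_assoc, ← mul_assoc (emb ι _) z₁, (hcomm _).eq, mul_assoc z₁, ← map_mul, e]
        simp only [map_mul, emb_swap, tri]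
        rw [hzeq]
        simp only [mul_assoc]]
       refine (key.mul_tri (ι.injective.ne (by decide)) (ι.injective.ne (by decide))
          (ι.injective.ne (by decide)) (hσ _ (by simp [hL])) (hσ _ (by simp [hL]))).mul_tri
          (ι.injective.ne (by decide)) (ι.injective.ne (by decide)) (ι.injective.ne (by decide)) ?_ ?_
       all_goals
        rw [Perm.mul_apply, tri_other (ι.injective.ne (by decide)) (ι.injective.ne (by decide))
          (ι.injective.ne (by decide))]
        exact hσ _ (by simp [hL]))

/-- Contraction of a path `y x y x y` of six points to one edge of `y`. -/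
theorem Mid.expand {x y z : Perm α} {W : Finset α} (ι : Fin 6 ↪ α)
    (hι : ∀ i, ι i ∈ W)
    (h : Mid x (y * emb ι (swap 0 5)) (W \ {ι 1, ι 2, ι 3, ι 4}) z)
    (hx : Fixes x {ι 1, ι 2, ι 3, ι 4}) (hy : Fixes y (Finset.univ.map ι)) :
    ∃ z', Mid (x * emb ι (swap 1 2 * swap 3 4))
      (y * emb ι (swap 0 1 * swap 2 3 * swap 4 5)) W z' := by
  classical
  set L : Finset α := {ι 1, ι 2, ι 3, ι 4} with hL
  have hz : Fixes z L := fun a ha => h.within a (fun e => (Finset.mem_sdiff.1 e).2 ha)
  have hwin : ∀ g : Perm (Fin 6), Within (emb ι g) (Finset.univ.map ι) :=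
    fun g a ha => emb_notMem ι g ha
  set q := emb ι (swap 1 2 * swap 3 4) with hq
  have hqL : Within q L := by
    rw [hq, map_mul, emb_swap, emb_swap]
    exact (within_swap (by simp [hL]) (by simp [hL])).mul
      (within_swap (by simp [hL]) (by simp [hL]))
  have hcz : Commute q z := (disjoint_of hqL hz).commute
  have hcx : Commute q x := (disjoint_of hqL hx).commute
  have hq2 : q * q = 1 := by
    rw [hq, ← map_mul, show swap (1 : Fin 6) 2 * swap 3 4 * (swap 1 2 * swap 3 4) = 1 by decide,
      map_one]
  refine ⟨q * z, sq_mul hqL hz hq2 h.sq, ?_, ?_, ?_, ?_⟩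
  · rw [supp_mul hqL hz, ← hcx.eq, supp_mul hqL hx,
      ← (disjoint_of (hwin _) hy).commute.eq, supp_mul (hwin _) hy]
    have hc := h.card
    rw [← (disjoint_of (hwin (swap 0 5)) hy).commute.eq, supp_mul (hwin _) hy, emb_support,
      Finset.card_map, show (swap (0 : Fin 6) 5).support.card = 2 by decide] at hc
    have c4 : (swap (1 : Fin 6) 2 * swap 3 4).support.card = 4 := by decide
    have c6 : (swap (0 : Fin 6) 1 * swap 2 3 * swap 4 5).support.card = 6 := by decide
    rw [hq, emb_support, Finset.card_map, emb_support, Finset.card_map, c4, c6]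
    omega
  · intro a ha
    rw [Perm.mul_apply, h.within a (fun e => ha (Finset.mem_sdiff.1 e).1)]
    exact hqL a (fun e => ha (by
      simp only [hL, Finset.mem_insert, Finset.mem_singleton] at e
      rcases e with rfl | rfl | rfl | rfl <;> exact hι _))
  · rw [show x * q * (q * z) = x * z by rw [mul_assoc, ← mul_assoc q, hq2, one_mul]]
    exact h.left
  · -- conjugate by `z`
    set y' := y * emb ι (swap 0 5) with hy'
    have hy'L : Fixes y' L := by
      intro a ha
      rw [hy', Perm.mul_apply, emb_swap]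
      have hne : a ≠ ι 0 ∧ a ≠ ι 5 := by
        simp only [hL, Finset.mem_insert, Finset.mem_singleton] at ha
        rcases ha with rfl | rfl | rfl | rfl <;>
          exact ⟨ι.injective.ne (by decide), ι.injective.ne (by decide)⟩
      rw [swap_apply_of_ne_of_ne hne.1 hne.2]
      refine hy a ?_
      simp only [hL, Finset.mem_insert, Finset.mem_singleton] at ha
      rcases ha with rfl | rfl | rfl | rfl <;> simp
    have hy'2 : OddPow (z * y') := by
      have := h.right.conj z
      rwa [inv_eq_of_mul_eq_one_right h.sq, mul_assoc, mul_assoc, h.sq, mul_one] at this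
    have hσ : Fixes (z * y') L := hz.mul hy'L
    have key : OddPow ((z * y') * tri (ι 0) (ι 1) (ι 3) * tri (ι 5) (ι 4) (ι 2)) := by
      refine (hy'2.mul_tri (ι.injective.ne (by decide)) (ι.injective.ne (by decide))
          (ι.injective.ne (by decide)) (hσ _ (by simp [hL])) (hσ _ (by simp [hL]))).mul_tri
          (ι.injective.ne (by decide)) (ι.injective.ne (by decide)) (ι.injective.ne (by decide)) ?_ ?_
      all_goals
        rw [Perm.mul_apply, tri_other (ι.injective.ne (by decide)) (ι.injective.ne (by decide))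
          (ι.injective.ne (by decide))]
        exact hσ _ (by simp [hL])
    have e : swap (0 : Fin 6) 5 * (swap 0 1 * swap 2 3 * swap 4 5) * (swap 1 2 * swap 3 4) =
        swap 0 1 * swap 1 3 * (swap 5 4 * swap 4 2) := by decide
    have e2 : (z * y') * tri (ι 0) (ι 1) (ι 3) * tri (ι 5) (ι 4) (ι 2) =
        z * (y * emb ι (swap 0 1 * swap 2 3 * swap 4 5) * q) := by
      have e3 : emb ι (swap 0 5) * (tri (ι 0) (ι 1) (ι 3) * tri (ι 5) (ι 4) (ι 2)) =
          emb ι (swap 0 1 * swap 2 3 * swap 4 5) * q := by
        rw [hq, tri, tri, ← emb_swap, ← emb_swap, ← emb_swap, ← emb_swap, ← map_mul, ← map_mul,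
          ← map_mul, ← map_mul, ← map_mul]
        congr 1
        decide
      rw [hy', mul_assoc _ (tri _ _ _), mul_assoc, mul_assoc y, e3, ← mul_assoc y]
    rw [e2] at key
    have k2 := key.conj z
    rw [inv_eq_of_mul_eq_one_right h.sq, ← mul_assoc z z, h.sq, one_mul, mul_assoc] at k2
    exact k2

end Cfsg.Agent.Lib.OddProductPerm
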